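import Groth.Agent.L23.Decent2
import Groth.Agent.L23.QFMulti
import Groth.Agent.L23.UHPush
import Mathlib.LinearAlgebra.TensorProduct.Finiteness

/-!
# Locally separated algebraic spaces are decent
-/

universe u

open CategoryTheory CategoryTheory.Limits AlgebraicGeometry AlgSp Opposite
open scoped TensorProduct

set_option backward.isDefEq.respectTransparency.types false

namespace Groth.L09.LocSepDecent

open Groth.L23 Groth.L23.Pt Groth.L23.QFL

variable {S : Scheme.{u}}

/-- Vectors with `δ`-like products are at most as many as the coordinates. -/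
theorem card_le_of_dot {K ι κ : Type*} [Field K] [Fintype ι] (s : Finset κ) (v w : κ → ι → K)
    (h1 : ∀ a ∈ s, ∑ i, v a i * w a i ≠ 0) (h2 : ∀ a ∈ s, ∀ b ∈ s, a ≠ b → ∑ i, v a i * w b i = 0) :
    s.card ≤ Fintype.card ι := by
  classical
  have hli : LinearIndependent K fun a : s => v a.1 := by
    rw [linearIndependent_iff']
    intro t c hc b hb
    have := congrArg (fun x : ι → K => ∑ i, x i * w b.1 i) hc
    simp only [Finset.sum_apply, Pi.smul_apply, smul_eq_mul, Pi.zero_apply, zero_mul, Finset.sum_const_zero] at this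
    simp only [Finset.sum_mul] at this
    rw [Finset.sum_comm] at this
    simp only [mul_assoc, ← Finset.mul_sum] at this
    rw [Finset.sum_eq_single b (fun a _ hab => by
      rw [h2 a.1 a.2 b.1 b.2 (fun e => hab (Subtype.ext e)), mul_zero]) (fun h => absurd hb h)] at this
    exact (mul_eq_zero.1 this).resolve_right (h1 b.1 b.2)
  simpa using hli.fintype_card_le_finrank

/-- Near every point of an affine chart there are finitely many lifts of a field valued point. -/
theorem exists_nhd_finite_lifts {X : Sp S} (hX : IsAlgSpace X) (hls : IsLocallySeparatedSp X) {U : Over S}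
    {φ : (yon S).obj U ⟶ X} (hφ : RepWith @Etale φ) {K : Type u} [Field K]
    {k₀ : Spec (CommRingCat.of K) ⟶ S} (x₀ : (yon S).obj (Over.mk k₀) ⟶ X) (z : U.left) :
    ∃ W : U.left.Opens, z ∈ W ∧
      {f : Over.mk k₀ ⟶ U | (yon S).map f ≫ φ = x₀ ∧ Set.range f.left ⊆ W}.Finite := by
  obtain ⟨R₀, A, _, _, _, σ, o, hσm, hoo, ho', hzo⟩ : ∃ (R₀ A : Type u) (_ : CommRing R₀) (_ : CommRing A)
      (_ : Algebra R₀ A) (σ : Spec (CommRingCat.of R₀) ⟶ S) (o : Spec (CommRingCat.of A) ⟶ U.left),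
      Mono σ ∧ IsOpenImmersion o ∧
      o ≫ U.hom = Spec.map (CommRingCat.ofHom (algebraMap R₀ A)) ≫ σ ∧ z ∈ Set.range o := by
    obtain ⟨_, ⟨V₁', hV₁, rfl⟩, hzV, -⟩ :=
      S.isBasis_affineOpens.exists_subset_of_mem_open (Set.mem_univ (U.hom z)) isOpen_univ
    let V₁ : S.Opens := V₁'
    obtain ⟨_, ⟨W₁', hW₁, rfl⟩, hzW, hle⟩ := U.left.isBasis_affineOpens.exists_subset_of_mem_open
      (show z ∈ (U.hom ⁻¹ᵁ V₁ : U.left.Opens) from hzV) (U.hom ⁻¹ᵁ V₁).isOpen
    let W₁ : U.left.Opens := W₁'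
    have : IsAffine (V₁ : Scheme.{u}) := hV₁
    have : IsAffine (W₁ : Scheme.{u}) := hW₁
    let r : (W₁ : Scheme.{u}) ⟶ (V₁ : Scheme.{u}) := U.hom.resLE V₁ W₁ hle
    refine ⟨Γ((V₁ : Scheme.{u}), ⊤), Γ((W₁ : Scheme.{u}), ⊤), inferInstance, inferInstance, r.appTop.hom.toAlgebra,
      (V₁ : Scheme.{u}).isoSpec.inv ≫ V₁.ι, (W₁ : Scheme.{u}).isoSpec.inv ≫ W₁.ι,
      inferInstanceAs (Mono ((V₁ : Scheme.{u}).isoSpec.inv ≫ V₁.ι)),
      inferInstanceAs (IsOpenImmersion ((W₁ : Scheme.{u}).isoSpec.inv ≫ W₁.ι)), ?_,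
      (W₁ : Scheme.{u}).isoSpec.hom ⟨z, hzW⟩, ?_⟩
    · show ((W₁ : Scheme.{u}).isoSpec.inv ≫ W₁.ι) ≫ U.hom = Spec.map r.appTop ≫ _
      rw [Category.assoc, ← Scheme.Hom.resLE_comp_ι U.hom (V := W₁) (U := V₁) hle, ← Category.assoc (Spec.map r.appTop),
        Scheme.isoSpec_inv_naturality, Category.assoc]
    · rw [← Scheme.Hom.comp_apply, Iso.hom_inv_id_assoc]
      rfl
  let a₀ : Spec (CommRingCat.of A) ⟶ Spec (CommRingCat.of R₀) := Spec.map (CommRingCat.ofHom (algebraMap R₀ A))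
  have ho : o ≫ U.hom = a₀ ≫ σ := ho'
  let W : Over S := Over.mk (a₀ ≫ σ)
  let oW : W ⟶ U := Over.homMk o ho
  let φW : (yon S).obj W ⟶ X := (yon S).map oW ≫ φ
  have hφW : RepWith @Etale φW := repWith_comp (repWith_map (show Etale oW.left from inferInstanceAs (Etale o))) hφ
  -- the product of the affine chart with itself
  let p₁ : Spec (CommRingCat.of (A ⊗[R₀] A)) ⟶ Spec (CommRingCat.of A) :=
    Spec.map (CommRingCat.ofHom Algebra.TensorProduct.includeLeftRingHom)
  let p₂ : Spec (CommRingCat.of (A ⊗[R₀] A)) ⟶ Spec (CommRingCat.of A) :=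
    Spec.map (CommRingCat.ofHom Algebra.TensorProduct.includeRight.toRingHom)
  have sP : IsPullback p₁ p₂ a₀ a₀ :=
    (IsPullback.of_hasPullback a₀ a₀).of_iso (pullbackSpecIso R₀ A A) (Iso.refl _) (Iso.refl _) (Iso.refl _)
      (by rw [← cancel_epi (pullbackSpecIso R₀ A A).inv]; simp only [Iso.refl_hom, Category.comp_id,
        Iso.inv_hom_id_assoc]; exact pullbackSpecIso_inv_fst R₀ A A)
      (by rw [← cancel_epi (pullbackSpecIso R₀ A A).inv]; simp only [Iso.refl_hom, Category.comp_id,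
        Iso.inv_hom_id_assoc]; exact pullbackSpecIso_inv_snd R₀ A A)
      (by simp [a₀]) (by simp [a₀])
  let P : Over S := Over.mk (p₁ ≫ a₀ ≫ σ)
  let q₁ : P ⟶ W := Over.homMk p₁ rfl
  let q₂ : P ⟶ W := Over.homMk p₂ (by show p₂ ≫ a₀ ≫ σ = p₁ ≫ a₀ ≫ σ; rw [sP.w_assoc])
  have hPext : ∀ {T : Over S} (x y : T ⟶ P), x ≫ q₁ = y ≫ q₁ → x ≫ q₂ = y ≫ q₂ → x = y := fun x y e₁ e₂ =>
    Over.OverMorphism.ext (sP.hom_ext (congr_arg CommaMorphism.left e₁) (congr_arg CommaMorphism.left e₂))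
  have hPlift : ∀ {T : Over S} (x y : T ⟶ W), ∃ l : T ⟶ P, l ≫ q₁ = x ∧ l ≫ q₂ = y := fun {T} x y => by
    have w : x.left ≫ a₀ = y.left ≫ a₀ := by
      rw [← cancel_mono σ, Category.assoc, Category.assoc]
      exact (Over.w x).trans (Over.w y).symm
    refine ⟨Over.homMk (sP.lift x.left y.left w) ?_, Over.OverMorphism.ext (sP.lift_fst _ _ _),
      Over.OverMorphism.ext (sP.lift_snd _ _ _)⟩
    show sP.lift x.left y.left w ≫ p₁ ≫ a₀ ≫ σ = T.hom
    rw [← Category.assoc, sP.lift_fst]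
    exact Over.w x
  -- the equivalence relation sits in it as an immersion
  obtain ⟨E, p, q, sE⟩ := exists_isPullback_of_representable hφW.1 φW
  obtain ⟨j, hj₁, hj₂⟩ := hPlift p q
  have sqd : IsPullback ((yon S).map p ≫ φW) ((yon S).map j) (Limits.diag X)
      (prod.lift ((yon S).map q₁ ≫ φW) ((yon S).map q₂ ≫ φW)) := by
    refine UHPush.isPullback_of_yon ?_ (fun T k k' _ h₂ => ?_) fun T x y h => ?_
    · apply Limits.prod.hom_ext <;> simp only [Category.assoc, prod.lift_fst, prod.lift_snd, Category.comp_id]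
      · rw [← hj₁, Functor.map_comp, Category.assoc]
      · rw [sE.w, ← hj₂, Functor.map_comp, Category.assoc]
    · refine sE.hom_ext ?_ ?_
      · rw [← hj₁, Functor.map_comp, reassoc_of% h₂]
      · rw [← hj₂, Functor.map_comp, reassoc_of% h₂]
    · have e₁ := h =≫ prod.fst
      have e₂ := h =≫ prod.snd
      simp only [Category.assoc, prod.lift_fst, prod.lift_snd, Category.comp_id] at e₁ e₂
      obtain ⟨l, hl⟩ := (yon S).map_surjective (sE.lift (y ≫ (yon S).map q₁) (y ≫ (yon S).map q₂)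
        (by simp only [Category.assoc]; exact e₁.symm.trans e₂))
      refine ⟨(yon S).map l, ?_, ?_⟩
      · rw [← Category.assoc, hl, sE.lift_fst, Category.assoc, ← e₁]
      · obtain ⟨y, rfl⟩ := (yon S).map_surjective y
        rw [← Functor.map_comp]
        refine congrArg _ (hPext _ _ ?_ ?_)
        · rw [Category.assoc, hj₁]
          refine (yon S).map_injective ?_
          rw [Functor.map_comp, hl, sE.lift_fst, Functor.map_comp]
        · rw [Category.assoc, hj₂]
          refine (yon S).map_injective ?_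
          rw [Functor.map_comp, hl, sE.lift_snd, Functor.map_comp]
  have hj : IsImmersion j.left := repWith_prop hls sqd
  obtain ⟨δ, hδ₁, hδ₂⟩ := exists_lift_yon sE (𝟙 W) (𝟙 W) rfl
  have : Etale p.left := repWith_prop hφW sE.flip
  have : Etale (δ.left ≫ p.left) := by
    rw [← Over.comp_left, hδ₁]
    exact inferInstanceAs (Etale (𝟙 W.left))
  have : Etale δ.left := Etale.of_comp δ.left p.left
  have hΔ : IsOpen (Set.range δ.left) := δ.left.isOpenMap.isOpen_range
  obtain ⟨O, hO, hOE⟩ := j.left.isEmbedding.isInducing.isOpen_iff.1 hΔ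
  obtain ⟨z', hz'⟩ := hzo
  have hzO : (j.left (δ.left z')) ∈ O := by
    show δ.left z' ∈ j.left ⁻¹' O
    rw [hOE]; exact ⟨z', rfl⟩
  obtain ⟨_, ⟨hh, rfl⟩, hzh, hhO⟩ := PrimeSpectrum.isTopologicalBasis_basic_opens.exists_subset_of_mem_open
    (a := (j.left (δ.left z') : PrimeSpectrum (A ⊗[R₀] A))) hzO hO
  obtain ⟨Sf, hSf⟩ := TensorProduct.exists_finset hh
  let g : A := Algebra.TensorProduct.lmul' R₀ (S := A) hh
  have hg : g = ∑ i ∈ Sf, i.1 * i.2 := by
    show Algebra.TensorProduct.lmul' R₀ (S := A) hh = _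
    rw [hSf, map_sum]
    simp only [Algebra.TensorProduct.lmul'_apply_tmul]
  have hdiag : j.left ∘ δ.left = PrimeSpectrum.comap (Algebra.TensorProduct.lmul' R₀ (S := A)).toRingHom := by
    have e : δ.left ≫ j.left = Spec.map (CommRingCat.ofHom (Algebra.TensorProduct.lmul' R₀ (S := A)).toRingHom) := by
      refine sP.hom_ext ?_ ?_
      · have h1 := congr_arg CommaMorphism.left ((Category.assoc δ j q₁).trans ((congrArg (δ ≫ ·) hj₁).trans hδ₁))
        refine h1.trans (Eq.symm ?_)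
        show Spec.map _ ≫ Spec.map _ = 𝟙 (Spec (CommRingCat.of A))
        rw [← Spec.map_comp, ← Spec.map_id]
        exact congrArg Spec.map (CommRingCat.hom_ext (RingHom.ext fun a => by
          show Algebra.TensorProduct.lmul' R₀ (S := A) (a ⊗ₜ 1) = a
          simp))
      · have h1 := congr_arg CommaMorphism.left ((Category.assoc δ j q₂).trans ((congrArg (δ ≫ ·) hj₂).trans hδ₂))
        refine h1.trans (Eq.symm ?_)
        show Spec.map _ ≫ Spec.map _ = 𝟙 (Spec (CommRingCat.of A))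
        rw [← Spec.map_comp, ← Spec.map_id]
        exact congrArg Spec.map (CommRingCat.hom_ext (RingHom.ext fun a => by
          show Algebra.TensorProduct.lmul' R₀ (S := A) (1 ⊗ₜ a) = a
          simp))
    funext x
    exact congr($e x)
  have hgz : z' ∈ PrimeSpectrum.basicOpen g := by
    have h := hzh
    rw [show j.left (δ.left z') = PrimeSpectrum.comap (Algebra.TensorProduct.lmul' R₀ (S := A)).toRingHom z' from
      congrFun hdiag z'] at h
    exact h
  refine ⟨o ''ᵁ (PrimeSpectrum.basicOpen g), ⟨z', hgz, hz'⟩, ?_⟩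
  -- lifts into the neighbourhood
  let G := {f : Over.mk k₀ ⟶ U | (yon S).map f ≫ φ = x₀ ∧
    Set.range f.left ⊆ ((o ''ᵁ (PrimeSpectrum.basicOpen g) : U.left.Opens) : Set U.left)}
  have hlift : ∀ f ∈ G, ∃ f' : Over.mk k₀ ⟶ W, f' ≫ oW = f := fun f hf => by
    have h : Set.range f.left ⊆ Set.range o := hf.2.trans (by rintro _ ⟨x, -, rfl⟩; exact ⟨x, rfl⟩)
    refine ⟨Over.homMk (IsOpenImmersion.lift o f.left h) ?_, Over.OverMorphism.ext (IsOpenImmersion.lift_fac _ _ _)⟩
    show IsOpenImmersion.lift o f.left h ≫ a₀ ≫ σ = k₀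
    rw [← ho, IsOpenImmersion.lift_fac_assoc]
    exact Over.w f
  choose lift hlift using hlift
  let ψ : G → A →+* K := fun f => (Spec.preimage (lift f.1 f.2).left).hom
  have hψ : ∀ f : G, Spec.map (CommRingCat.ofHom (ψ f)) = (lift f.1 f.2).left := fun f => Spec.map_preimage _
  have hψ0 : ∀ f f' : G, (ψ f).comp (algebraMap R₀ A) = (ψ f').comp (algebraMap R₀ A) := fun f f' => by
    have e : Spec.map (CommRingCat.ofHom ((ψ f).comp (algebraMap R₀ A))) ≫ σ =
        Spec.map (CommRingCat.ofHom ((ψ f').comp (algebraMap R₀ A))) ≫ σ := by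
      rw [CommRingCat.ofHom_comp, CommRingCat.ofHom_comp, Spec.map_comp, Spec.map_comp, hψ, hψ,
        Category.assoc, Category.assoc]
      exact (Over.w (lift f.1 f.2)).trans (Over.w (lift f'.1 f'.2)).symm
    exact congrArg CommRingCat.Hom.hom (Spec.map_injective ((cancel_mono σ).1 e))
  let t₀ : ↥(Spec (CommRingCat.of K)) := IsLocalRing.closedPoint K
  have hpt : ∀ f : G, (Spec.map (CommRingCat.ofHom (ψ f))) t₀ ∈ PrimeSpectrum.basicOpen g := fun f => by
    obtain ⟨x, hx, hxe⟩ := f.2.2 ⟨t₀, rfl⟩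
    have h : o ((lift f.1 f.2).left t₀) = o x := by
      rw [← Scheme.Hom.comp_apply,
        show (lift f.1 f.2).left ≫ o = f.1.left from congr_arg CommaMorphism.left (hlift f.1 f.2)]
      exact hxe.symm
    rw [hψ]
    exact o.isOpenEmbedding.injective h ▸ hx
  have hne : ∀ f : G, ψ f g ≠ 0 := fun f h => hpt f (by
    show g ∈ Ideal.comap (ψ f) (IsLocalRing.maximalIdeal K)
    rw [Ideal.mem_comap, h]
    exact zero_mem _)
  have hcross : ∀ f f' : G, f ≠ f' → ∑ i ∈ Sf, ψ f i.1 * ψ f' i.2 = 0 := by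
    intro f f' hff
    by_contra hne'
    let algK : Algebra R₀ K := ((ψ f).comp (algebraMap R₀ A)).toAlgebra
    let αf : A →ₐ[R₀] K := ⟨ψ f, fun x => rfl⟩
    let αf' : A →ₐ[R₀] K := ⟨ψ f', fun x => RingHom.congr_fun (hψ0 f' f) x⟩
    let Φ : A ⊗[R₀] A →ₐ[R₀] K := Algebra.TensorProduct.lift αf αf' fun _ _ => Commute.all _ _
    have hΦ : Φ hh = ∑ i ∈ Sf, ψ f i.1 * ψ f' i.2 := by
      rw [hSf, map_sum]
      simp only [Φ, Algebra.TensorProduct.lift_tmul]
      rfl
    obtain ⟨l, hl₁, hl₂⟩ := hPlift (lift f.1 f.2) (lift f'.1 f'.2)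
    have hl : l.left = Spec.map (CommRingCat.ofHom Φ.toRingHom) := sP.hom_ext (by
      refine (congr_arg CommaMorphism.left hl₁).trans (Eq.symm ?_)
      show Spec.map _ ≫ Spec.map _ = _
      exact (Spec.map_comp _ _).symm.trans ((congrArg Spec.map (CommRingCat.hom_ext (RingHom.ext fun a => by
        show Φ (a ⊗ₜ 1) = ψ f a
        simp [Φ, αf, αf']))).trans (hψ f))) (by
      refine (congr_arg CommaMorphism.left hl₂).trans (Eq.symm ?_)
      show Spec.map _ ≫ Spec.map _ = _
      exact (Spec.map_comp _ _).symm.trans ((congrArg Spec.map (CommRingCat.hom_ext (RingHom.ext fun a => by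
        show Φ (1 ⊗ₜ a) = ψ f' a
        simp [Φ, αf, αf']))).trans (hψ f')))
    have hin : l.left t₀ ∈ O := by
      refine hhO ?_
      rw [hl]
      intro hmem
      have h0 : Φ hh ∈ IsLocalRing.maximalIdeal K := hmem
      rw [IsLocalRing.maximalIdeal_eq_bot, Ideal.mem_bot, hΦ] at h0
      exact hne' h0
    have hφf : ∀ f : G, (yon S).map (lift f.1 f.2) ≫ φW = x₀ := fun f => by
      show (yon S).map (lift f.1 f.2) ≫ (yon S).map oW ≫ φ = x₀
      rw [← Functor.map_comp_assoc, hlift]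
      exact f.2.1
    obtain ⟨e, he₁, he₂⟩ := exists_lift_yon sE (lift f.1 f.2) (lift f'.1 f'.2) ((hφf f).trans (hφf f').symm)
    have hej : e ≫ j = l := hPext _ _ (by rw [Category.assoc, hj₁, he₁, hl₁]) (by rw [Category.assoc, hj₂, he₂, hl₂])
    have hrange : Set.range e.left ⊆ Set.range δ.left := by
      rintro _ ⟨t, rfl⟩
      obtain rfl : t = t₀ := Subsingleton.elim (α := PrimeSpectrum K) _ _
      rw [← hOE]
      show j.left (e.left t₀) ∈ O
      rw [← Scheme.Hom.comp_apply, ← Over.comp_left, hej]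
      exact hin
    have : IsOpenImmersion δ.left := by
      have : Mono δ.left := by
        have : IsSplitMono δ.left := ⟨⟨p.left, by rw [← Over.comp_left, hδ₁]; rfl⟩⟩
        infer_instance
      exact IsOpenImmersion.of_flat_of_mono δ.left
    have hfac : e = (Over.homMk (IsOpenImmersion.lift δ.left e.left hrange) (by
        rw [← Over.w δ, IsOpenImmersion.lift_fac_assoc, Over.w e]) : Over.mk k₀ ⟶ W) ≫ δ :=
      Over.OverMorphism.ext (IsOpenImmersion.lift_fac _ _ _).symm
    apply hff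
    refine Subtype.ext ?_
    rw [← hlift f.1 f.2, ← hlift f'.1 f'.2]
    congr 1
    rw [← he₁, ← he₂, hfac, Category.assoc, Category.assoc, hδ₁, hδ₂]
  classical
  have hfin : Finite G := by
    by_contra hinf
    rw [not_finite_iff_infinite] at hinf
    obtain ⟨s, hs⟩ := Infinite.exists_subset_card_eq G (Sf.card + 1)
    have := card_le_of_dot (K := K) (ι := Sf) s (fun f i => ψ f i.1.1) (fun f i => ψ f i.1.2) (fun f _ => by
      rw [Finset.sum_coe_sort Sf (fun i => ψ f i.1 * ψ f i.2)]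
      have h := hne f
      rw [hg, map_sum] at h
      simpa only [map_mul] using h) (fun f _ f' _ hff => by
      rw [Finset.sum_coe_sort Sf (fun i => ψ f i.1 * ψ f' i.2)]
      exact hcross f f' hff)
    rw [hs, Fintype.card_coe] at this
    omega
  exact Set.toFinite G

/-- An affine chart has finitely many lifts of a field valued point. -/
theorem finite_lifts {X : Sp S} (hX : IsAlgSpace X) (hls : IsLocallySeparatedSp X) {U : Over S} [IsAffine U.left]
    {φ : (yon S).obj U ⟶ X} (hφ : RepWith @Etale φ) {K : Type u} [Field K]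
    {k₀ : Spec (CommRingCat.of K) ⟶ S} (x₀ : (yon S).obj (Over.mk k₀) ⟶ X) :
    {f : Over.mk k₀ ⟶ U | (yon S).map f ≫ φ = x₀}.Finite := by
  choose W hW hfin using exists_nhd_finite_lifts hX hls hφ x₀
  obtain ⟨s, hs⟩ := isCompact_univ.elim_finite_subcover (fun z => (W z : Set U.left)) (fun z => (W z).isOpen)
    fun z _ => Set.mem_iUnion.2 ⟨z, hW z⟩
  refine (s.finite_toSet.biUnion fun z _ => hfin z).subset fun f hf => ?_
  obtain ⟨z, hz, hzf⟩ := Set.mem_iUnion₂.1 (hs (Set.mem_univ (f.left (IsLocalRing.closedPoint K))))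
  refine Set.mem_biUnion hz ⟨hf, ?_⟩
  rintro _ ⟨t, rfl⟩
  rwa [show t = IsLocalRing.closedPoint K from Subsingleton.elim (α := PrimeSpectrum K) _ _]

theorem isDecent {X : Sp S} (hX : IsAlgSpace X) (hls : IsLocallySeparatedSp X) : IsDecent X := by
  have geo : ∀ {U : Over S} (u : U.left), ∃ (k₀ : Spec (CommRingCat.of (AlgebraicClosure (U.left.residueField u))) ⟶ S)
      (f₀ : Over.mk k₀ ⟶ U), f₀.left (IsLocalRing.closedPoint _) = u := fun {U} u =>
    ⟨(Spec.map (CommRingCat.ofHom (algebraMap (U.left.residueField u) _)) ≫ U.left.fromSpecResidueField u) ≫ U.hom,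
      Over.homMk (Spec.map (CommRingCat.ofHom (algebraMap (U.left.residueField u) _)) ≫ U.left.fromSpecResidueField u) rfl,
      by
        show (U.left.fromSpecResidueField u) _ = u
        exact Scheme.fromSpecResidueField_apply u _⟩
  have hfib : ∀ {U : Over S} [IsAffine U.left] {φ : (yon S).obj U ⟶ X}, RepWith @Etale φ → ∀ u : U.left,
      (Points.ofPt φ ⁻¹' {Points.ofPt φ u}).Finite := by
    intro U _ φ hφ u
    obtain ⟨k₀, f₀, hf₀⟩ := geo u
    refine ((finite_lifts hX hls hφ ((yon S).map f₀ ≫ φ)).image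
      fun f : Over.mk k₀ ⟶ U => f.left (IsLocalRing.closedPoint _)).subset fun u' hu' => ?_
    obtain ⟨γ, h₁, h₂⟩ := exists_lift_algClosed hφ ((yon S).map f₀ ≫ φ) u' (IsLocalRing.closedPoint _) (by
      rw [ofPt_comp, hf₀]; exact hu'.symm)
    exact ⟨γ, h₁, h₂⟩
  intro x
  obtain ⟨U, a, hU, ha, u, rfl⟩ : ∃ (U : Over S) (a : (yon S).obj U ⟶ X) (_ : IsAffine U.left)
      (_ : RepWith @Etale a) (u : U.left), Points.ofPt a u = x := by
    obtain ⟨U, a, hU, ha, u, hu⟩ := exists_affine_etale_nhd hX x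
    exact ⟨U, a, hU, ha, u, hu⟩
  obtain ⟨R, t, s, sR⟩ := exists_isPullback_of_representable ha.1 a
  have : Etale s.left := repWith_prop ha sR
  have hrel : {r : R.left | s.left r = u ∧ t.left r = u}.Finite := by
    obtain ⟨k₀, f₀, hf₀⟩ := geo u
    have hlift : ∀ r : R.left, s.left r = u → ∃ γ : Over.mk k₀ ⟶ R, γ ≫ s = f₀ ∧
        γ.left (IsLocalRing.closedPoint _) = r := fun r hr => by
      obtain ⟨γ, h₁, h₂⟩ := exists_lift_algClosed (repWith_map (show Etale s.left from inferInstance))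
        ((yon S).map f₀) r (IsLocalRing.closedPoint _) (by rw [ofPt_map, ofPt_map, hf₀, hr])
      exact ⟨γ, (yon S).map_injective (by rw [(yon S).map_comp, h₁]), h₂⟩
    have hG := finite_lifts hX hls ha ((yon S).map f₀ ≫ a)
    let G' := {γ : Over.mk k₀ ⟶ R | γ ≫ s = f₀}
    have hfin' : G'.Finite := by
      refine Set.Finite.of_finite_image (f := fun γ : Over.mk k₀ ⟶ R => γ ≫ t) (hG.subset ?_) fun γ hγ γ' hγ' e => ?_
      swap
      · exact (yon S).map_injective (sR.hom_ext (by rw [← Functor.map_comp, ← Functor.map_comp]; exact congrArg _ e)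
          (by rw [← Functor.map_comp, ← Functor.map_comp, show γ ≫ s = f₀ from hγ, show γ' ≫ s = f₀ from hγ']))
      · rintro _ ⟨γ, hγ, rfl⟩
        show (yon S).map (γ ≫ t) ≫ a = (yon S).map f₀ ≫ a
        rw [Functor.map_comp, Category.assoc, sR.w, ← Functor.map_comp_assoc, show γ ≫ s = f₀ from hγ]
    refine (hfin'.image fun γ : Over.mk k₀ ⟶ R => γ.left (IsLocalRing.closedPoint _)).subset fun r hr => ?_
    obtain ⟨γ, h₁, h₂⟩ := hlift r hr.1
    exact ⟨γ, h₁, h₂⟩
  obtain ⟨m, hm, hmm⟩ := exists_mono_of_finite_rel hX a u u rfl sR hrel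
  refine ⟨m, hm, hmm, (qc_iff_finite_fibres hX m).2 fun V ψ hV hψ => ?_⟩
  rcases Set.eq_empty_or_nonempty (Points.ofPt ψ ⁻¹' {Points.mk m}) with h | ⟨v, hv⟩
  · rw [h]; exact Set.finite_empty
  · rw [← show Points.ofPt ψ v = Points.mk m from hv]
    exact hfib hψ v

end Groth.L09.LocSepDecent
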